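import Groth.Agent.AzumayaX.SepElement
import Mathlib.Algebra.Category.Ring.Constructions
import Mathlib.RingTheory.AdjoinRoot
import Mathlib.RingTheory.Spectrum.Prime.FreeLocus

/-! The algebras `A[T]/(T^d - u)` and the maps between them. -/

set_option autoImplicit false

universe u

open Polynomial CategoryTheory

namespace Groth.Agent.PicfLib.Cyc

noncomputable section

variable {A B C' : Type u} [CommRing A] [CommRing B] [CommRing C'] {d : ℕ}

/-- The algebra `A[T]/(T^d - u)`. -/
abbrev CR (d : ℕ) (u : A) : Type u := AdjoinRoot (X ^ d - C u : A[X])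

/-- The variable. -/
abbrev rt (d : ℕ) (u : A) : CR d u := AdjoinRoot.root _

/-- The constants. -/
abbrev cst (d : ℕ) (u : A) : A →+* CR d u := AdjoinRoot.of _

theorem rt_pow (u : A) : rt d u ^ d = cst d u u := by
  have h := AdjoinRoot.eval₂_root (X ^ d - C u : A[X])
  simpa [sub_eq_zero] using h

theorem isUnit_rt (hd : 0 < d) {u : A} (hu : IsUnit u) : IsUnit (rt d u) :=
  (isUnit_pow_iff hd.ne').1 (rt_pow u ▸ hu.map _)

theorem hom_ext {u : A} {g g' : CR d u →+* B} (h : g.comp (cst d u) = g'.comp (cst d u))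
    (hr : g (rt d u) = g' (rt d u)) : g = g' := by
  refine RingHom.ext fun y => ?_
  obtain ⟨P, rfl⟩ := AdjoinRoot.mk_surjective y
  exact congr($(Polynomial.ringHom_ext (f := g.comp (AdjoinRoot.mk _)) (g := g'.comp (AdjoinRoot.mk _))
    (fun a => congr($h a)) hr) P)

theorem mapCR_aux {u : A} {v : B} (f : A →+* B) (q : B) (hq : f u = q ^ d * v) :
    (X ^ d - C u : A[X]).eval₂ ((cst d v).comp f) (cst d v q * rt d v) = 0 := by
  simp [mul_pow, rt_pow, ← map_pow, ← map_mul, hq]

/-- The map sending the variable to `q` times the variable. -/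
def mapCR {u : A} {v : B} (f : A →+* B) (q : B) (hq : f u = q ^ d * v) : CR d u →+* CR d v :=
  AdjoinRoot.lift ((cst d v).comp f) (cst d v q * rt d v) (mapCR_aux f q hq)

theorem mapCR_cst {u : A} {v : B} (f : A →+* B) (q : B) (hq : f u = q ^ d * v) (a : A) :
    mapCR f q hq (cst d u a) = cst d v (f a) := AdjoinRoot.lift_of _

theorem mapCR_rt {u : A} {v : B} (f : A →+* B) (q : B) (hq : f u = q ^ d * v) :
    mapCR f q hq (rt d u) = cst d v q * rt d v := AdjoinRoot.lift_root _

theorem mapCR_id {u : A} (f : A →+* A) (q : A) (hq : f u = q ^ d * u) (hf : f = RingHom.id A) (h1 : q = 1) :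
    mapCR f q hq = RingHom.id (CR d u) := by
  refine hom_ext (RingHom.ext fun a => ?_) ?_
  · simp [mapCR_cst, hf]
  · simp [mapCR_rt, h1]

theorem mapCR_comp {u : A} {v : B} {w : C'} (f : A →+* B) (q : B) (hq : f u = q ^ d * v) (g : B →+* C') (r : C')
    (hr : g v = r ^ d * w) (h : A →+* C') (s : C') (hs : h u = s ^ d * w) (e : h = g.comp f) (es : s = g q * r) :
    mapCR h s hs = (mapCR g r hr).comp (mapCR f q hq) := by
  refine hom_ext (RingHom.ext fun a => ?_) ?_
  · simp [mapCR_cst, e]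
  · simp [mapCR_rt, mapCR_cst, es, mul_assoc]

/-- The map with a unit multiplier is a base change. -/
theorem isPushout_mapCR {u : A} {v : B} (f : A →+* B) (q : B) (hqu : IsUnit q) (hq : f u = q ^ d * v) :
    IsPushout (CommRingCat.ofHom f) (CommRingCat.ofHom (cst d u)) (CommRingCat.ofHom (cst d v))
      (CommRingCat.ofHom (mapCR f q hq)) := by
  have w : CommRingCat.ofHom f ≫ CommRingCat.ofHom (cst d v) =
      CommRingCat.ofHom (cst d u) ≫ CommRingCat.ofHom (mapCR f q hq) := by
    ext a; exact (mapCR_cst f q hq a).symm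
  obtain ⟨w', hw'⟩ := hqu
  have hdesc : ∀ s : Limits.PushoutCocone (CommRingCat.ofHom f) (CommRingCat.ofHom (cst d u)),
      (X ^ d - C v : B[X]).eval₂ s.inl.hom (s.inl.hom ((w'⁻¹ : Bˣ) : B) * s.inr.hom (rt d u)) = 0 := fun s => by
    have hc : s.inl.hom (f u) = s.inr.hom (cst d u u) := congr($(s.condition) u)
    have : ((w'⁻¹ : Bˣ) : B) ^ d * f u = v := by
      rw [hq, ← mul_assoc, ← mul_pow, ← hw', Units.inv_mul, one_pow, one_mul]
    simp only [eval₂_sub, eval₂_X_pow, eval₂_C, mul_pow, ← map_pow, rt_pow, ← hc, ← map_mul, this, sub_self]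
  refine IsPushout.of_isColimit (c := Limits.PushoutCocone.mk _ _ w) (Limits.PushoutCocone.IsColimit.mk w
    (fun s => CommRingCat.ofHom (AdjoinRoot.lift s.inl.hom _ (hdesc s))) (fun s => ?_) (fun s => ?_)
    (fun s m h1 h2 => ?_))
  · ext b; exact AdjoinRoot.lift_of (hdesc s)
  · refine CommRingCat.hom_ext (hom_ext (RingHom.ext fun a => ?_) ?_)
    · show AdjoinRoot.lift _ _ (hdesc s) (mapCR f q hq (cst d u a)) = _
      rw [mapCR_cst]
      exact (AdjoinRoot.lift_of _).trans congr($(s.condition) a)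
    · show AdjoinRoot.lift _ _ (hdesc s) (mapCR f q hq (rt d u)) = _
      rw [mapCR_rt, map_mul, AdjoinRoot.lift_of, AdjoinRoot.lift_root, ← mul_assoc, ← map_mul, ← hw',
        Units.mul_inv, map_one, one_mul]
  · refine CommRingCat.hom_ext (hom_ext (RingHom.ext fun b => ?_) ?_)
    · exact congr($h1 b).trans (AdjoinRoot.lift_of (hdesc s)).symm
    · show m.hom (rt d v) = AdjoinRoot.lift _ _ (hdesc s) (rt d v)
      rw [AdjoinRoot.lift_root]
      have e1 : ∀ b, m.hom (cst d v b) = s.inl.hom b := fun b => congr($h1 b)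
      have e2 : m.hom (mapCR f q hq (rt d u)) = s.inr.hom (rt d u) := congr($h2 (rt d u))
      rw [← e2, ← e1, ← map_mul, mapCR_rt, ← mul_assoc, ← map_mul, ← hw', Units.inv_mul, map_one, one_mul]

theorem monic (hd : 0 < d) (u : A) : (X ^ d - C u : A[X]).Monic := monic_X_pow_sub_C u hd.ne'

/-- The basis of powers of the variable. -/
def basisCR [Nontrivial A] (hd : 0 < d) (u : A) : Module.Basis (Fin d) A (CR d u) :=
  (AdjoinRoot.powerBasis' (monic hd u)).basis.reindex
    (finCongr ((AdjoinRoot.powerBasis'_dim _).trans natDegree_X_pow_sub_C))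

theorem basisCR_apply [Nontrivial A] (hd : 0 < d) (u : A) (i : Fin d) : basisCR hd u i = rt d u ^ (i : ℕ) := by
  simp [basisCR, PowerBasis.basis_eq_pow]

theorem sum_basisCR [Nontrivial A] (hd : 0 < d) (u : A) (y : CR d u) :
    y = ∑ i : Fin d, cst d u ((basisCR hd u).repr y i) * rt d u ^ (i : ℕ) := by
  conv_lhs => rw [← (basisCR hd u).sum_repr y]
  exact Finset.sum_congr rfl fun i _ => by rw [basisCR_apply, Algebra.smul_def]; rfl

theorem repr_mapCR [Nontrivial A] [Nontrivial B] (hd : 0 < d) {u : A} {v : B} (f : A →+* B) (q : B)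
    (hq : f u = q ^ d * v) (y : CR d u) (i : Fin d) :
    (basisCR hd v).repr (mapCR f q hq y) i = f ((basisCR hd u).repr y i) * q ^ (i : ℕ) := by
  have : mapCR f q hq y = ∑ j : Fin d, (f ((basisCR hd u).repr y j) * q ^ (j : ℕ)) • basisCR hd v j := by
    conv_lhs => rw [sum_basisCR hd u y, map_sum]
    refine Finset.sum_congr rfl fun j _ => ?_
    rw [map_mul, map_pow, mapCR_cst, mapCR_rt, basisCR_apply, Algebra.smul_def, mul_pow, ← map_pow, ← mul_assoc,
      ← map_mul]
    rfl
  rw [this, Module.Basis.repr_sum_self]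

theorem repr_cst [Nontrivial A] (hd : 0 < d) (u a : A) (i : Fin d) :
    (basisCR hd u).repr (cst d u a) i = if (i : ℕ) = 0 then a else 0 := by
  have : cst d u a = a • basisCR hd u ⟨0, hd⟩ := by rw [basisCR_apply, pow_zero, Algebra.smul_def, mul_one]; rfl
  rw [this, map_smul, Module.Basis.repr_self, Finsupp.smul_single, smul_eq_mul, mul_one, Finsupp.single_apply]
  simp [Fin.ext_iff, eq_comm]

theorem rankAtStalk_CR (hd : 0 < d) (u : A) (p : PrimeSpectrum A) : Module.rankAtStalk (CR d u) p = d := by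
  haveI : Nontrivial A := nontrivial_of_ne (0 : A) 1 fun h => p.2.ne_top ((Ideal.eq_top_iff_one _).2 (h ▸ p.asIdeal.zero_mem))
  haveI := (monic hd u).free_adjoinRoot
  rw [Module.rankAtStalk_eq_finrank_of_free]
  simp [Module.finrank_eq_card_basis (basisCR hd u)]

theorem separable (hd : 0 < d) {u : A} (hu : IsUnit u) (hdu : IsUnit (d : A)) :
    (X ^ d - C u : A[X]).Separable := by
  obtain ⟨w, rfl⟩ := hu
  obtain ⟨e, he⟩ := hdu
  refine ⟨C (-((w⁻¹ : Aˣ) : A)), C (((e⁻¹ : Aˣ) : A) * ((w⁻¹ : Aˣ) : A)) * X, ?_⟩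
  rw [derivative_sub, derivative_C, sub_zero, derivative_X_pow, ← he]
  obtain ⟨n, rfl⟩ := Nat.exists_eq_succ_of_ne_zero hd.ne'
  simp only [show n.succ - 1 = n from rfl, map_mul, map_neg, pow_succ]
  have h1 : C ((e⁻¹ : Aˣ) : A) * C (e : A) = (1 : A[X]) := by rw [← map_mul, Units.inv_mul, map_one]
  have h2 : C ((w⁻¹ : Aˣ) : A) * C (w : A) = (1 : A[X]) := by rw [← map_mul, Units.inv_mul, map_one]
  linear_combination (C ((w⁻¹ : Aˣ) : A) * X ^ n * X) * h1 + h2

end

end Groth.Agent.PicfLib.Cyc
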