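import Groth.Agent.PicfLib.Cyc.Alg
import Groth.Agent.PicfLib.Trans
import Groth.Agent.PicfLib.FppfLine.Datum
import Mathlib.AlgebraicGeometry.RelativeGluing

/-! The cyclic cover attached to a trivialised power of an invertible module. -/

set_option autoImplicit false
set_option backward.isDefEq.respectTransparency false
set_option backward.isDefEq.respectTransparency.types false

universe u

open CategoryTheory AlgebraicGeometry TopologicalSpace Opposite

namespace Groth.Agent.PicfLib.Cyc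

open Groth.Agent.AModX Groth.Agent.InvX Groth.Agent.PicfLib.FppfLine

noncomputable section

variable {X : Scheme.{u}} {L : X.Modules} {d : ℕ}

/-- Affine opens with a frame. -/
abbrev J (L : X.Modules) : Type u :=
  {W : X.Opens // IsAffineOpen W ∧ (W : Set X).Nonempty ∧ ∃ e : Γ(L, W), IsFrame e}

/-- The chosen frame. -/
def fr (W : J L) : Γ(L, W.1) := W.2.2.2.choose

theorem isFrame_fr (W : J L) : IsFrame (fr W) := W.2.2.2.choose_spec

instance (W : J L) : Nontrivial Γ(X, W.1) :=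
  (X.presheaf.germ W.1 W.2.2.1.choose W.2.2.1.choose_spec).hom.domain_nontrivial

theorem exists_chart_le (hL : PicF.IsInvertible L) {x : X} {O : X.Opens} (hx : x ∈ O) :
    ∃ V : J L, x ∈ V.1 ∧ V.1 ≤ O := by
  obtain ⟨U, hxU, e, he⟩ := InvX.exists_frame hL x
  obtain ⟨V, hV, hxV, hVle⟩ := Opens.isBasis_iff_nbhd.1 X.isBasis_affineOpens (show x ∈ U ⊓ O from ⟨hxU, hx⟩)
  exact ⟨⟨V, hV, ⟨x, hxV⟩, _, he.res (hVle.trans inf_le_left)⟩, hxV, hVle.trans inf_le_right⟩

/-- The coordinate between chosen frames. -/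
def qv {V W : J L} (h : V.1 ≤ W.1) : Γ(X, V.1) :=
  ((isFrame_fr V).exists_coord le_rfl (res L h (fr W))).choose

theorem qv_spec {V W : J L} (h : V.1 ≤ W.1) : res L h (fr W) = qv h • fr V :=
  (((isFrame_fr V).exists_coord le_rfl (res L h (fr W))).choose_spec).trans (congrArg (qv h • ·) (res_self _))

theorem isUnit_qv {V W : J L} (h : V.1 ≤ W.1) : IsUnit (qv h) :=
  Trans.isUnit_coord (isFrame_fr V) ((isFrame_fr W).res h) (qv_spec h)

theorem qv_self (W : J L) (h : W.1 ≤ W.1) : qv h = 1 := by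
  refine (isFrame_fr W).coord_unique le_rfl ?_
  rw [res_self, ← qv_spec, res_self, one_smul]

theorem qv_trans {Z V W : J L} (h : Z.1 ≤ V.1) (h' : V.1 ≤ W.1) :
    qv (h.trans h') = resR h (qv h') * qv h := by
  refine (isFrame_fr Z).coord_unique le_rfl ?_
  rw [res_self, ← qv_spec, ← res_res h' h, qv_spec h', res_smul, qv_spec h, mul_smul]

variable (θ : CohB1.tensorPow L d ≅ Coh.structureModule X)

/-- The value of the power of the frame. -/
def uval (W : J L) : Γ(X, W.1) := θ.hom.app W.1 (Trans.powSec (fr W) d)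

theorem isUnit_uval (W : J L) : IsUnit (uval θ W) := by
  refine Trans.isUnit_coord (InvX.isFrame_one (X := X) W.1) ((Trans.isFrame_powSec (isFrame_fr W) d).map_iso θ) ?_
  show (uval θ W : Γ(X, W.1)) = uval θ W * 1
  exact (mul_one _).symm

theorem res_uval {V W : J L} (h : V.1 ≤ W.1) : resR h (uval θ W) = qv h ^ d * uval θ V := by
  show res (Coh.structureModule X) h (θ.hom.app W.1 (Trans.powSec (fr W) d)) = _
  rw [← app_res, Trans.res_powSec, qv_spec h, Trans.powSec_smul, Scheme.Modules.Hom.app_smul]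
  rfl

/-- The algebra over a chart. -/
abbrev R (W : J L) : Type u := CR d (uval θ W)

/-- The transition map. -/
def tr {V W : J L} (h : V.1 ≤ W.1) : R θ W →+* R θ V := mapCR (resR h) (qv h) (res_uval θ h)

theorem tr_self (W : J L) (h : W.1 ≤ W.1) : tr θ h = RingHom.id _ :=
  mapCR_id _ _ _ (RingHom.ext fun a => resR_self a) (qv_self W h)

theorem tr_trans {Z V W : J L} (h : Z.1 ≤ V.1) (h' : V.1 ≤ W.1) :
    tr θ (h.trans h') = (tr θ h).comp (tr θ h') :=
  mapCR_comp _ _ _ _ _ _ _ _ _ (RingHom.ext fun a => (resR_resR h' h a).symm) (qv_trans h h')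

variable (hL : PicF.IsInvertible L)

/-- The cover by the charts. -/
abbrev cov : X.OpenCover where
  I₀ := J L
  X W := W.1
  f W := W.1.ι
  mem₀ := by
    rw [Scheme.presieve₀_mem_precoverage_iff]
    refine ⟨fun x => ?_, inferInstance⟩
    obtain ⟨V, hxV, -⟩ := exists_chart_le hL (show x ∈ (⊤ : X.Opens) from trivial)
    exact ⟨V, ⟨x, hxV⟩, rfl⟩

instance : Category (cov hL).I₀ := inferInstanceAs (Category (J L))

instance : Quiver.IsThin (cov hL).I₀ := fun _ _ => inferInstanceAs (Subsingleton (ULift (PLift (_ ≤ _))))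

instance : (cov hL).LocallyDirected where
  trans {V W} h := X.homOfLE h.le
  trans_id W := X.homOfLE_rfl _
  trans_comp h h' := (X.homOfLE_homOfLE _ _).symm
  w h := X.homOfLE_ι _
  directed {V W} x := by
    let a := (CategoryTheory.Limits.pullback.fst V.1.ι W.1.ι ≫ V.1.ι) x
    have haV : a ∈ V.1 := (CategoryTheory.Limits.pullback.fst V.1.ι W.1.ι x).2
    have haW : a ∈ W.1 := by
      unfold a; rw [CategoryTheory.Limits.pullback.condition]
      exact (CategoryTheory.Limits.pullback.snd V.1.ι W.1.ι x).2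
    obtain ⟨K, haK, hK⟩ := exists_chart_le hL (show a ∈ V.1 ⊓ W.1 from ⟨haV, haW⟩)
    refine ⟨K, homOfLE (hK.trans inf_le_left), homOfLE (hK.trans inf_le_right), ⟨a, haK⟩, ?_⟩
    apply (CategoryTheory.Limits.pullback.fst V.1.ι W.1.ι ≫ V.1.ι).isOpenEmbedding.injective
    rw [← Scheme.Hom.comp_apply, CategoryTheory.Limits.pullback.lift_fst_assoc, Scheme.homOfLE_ι]
    rfl

/-- The charts of the cover. -/
def chartFunctor : (cov hL).I₀ ⥤ Scheme.{u} where
  obj W := Spec (CommRingCat.of (R θ W))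
  map {V W} h := Spec.map (CommRingCat.ofHom (tr θ h.le))
  map_id W := by
    show Spec.map (CommRingCat.ofHom (tr θ _)) = _
    rw [tr_self, CommRingCat.ofHom_id, Spec.map_id]
  map_comp {Z V W} h h' := by
    show Spec.map (CommRingCat.ofHom (tr θ _)) = _
    rw [tr_trans θ h.le h'.le, CommRingCat.ofHom_comp, Spec.map_comp]

/-- The structure maps of the charts. -/
def chartMap (W : J L) : Spec (CommRingCat.of (R θ W)) ⟶ (W.1 : Scheme.{u}) :=
  Spec.map (CommRingCat.ofHom (cst d (uval θ W))) ≫ W.2.1.isoSpec.inv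

theorem isoSpec_inv_homOfLE {V W : J L} (h : V.1 ≤ W.1) :
    Spec.map (CommRingCat.ofHom (resR h)) ≫ W.2.1.isoSpec.inv = V.2.1.isoSpec.inv ≫ X.homOfLE h := by
  rw [← cancel_mono W.1.ι, Category.assoc, Category.assoc, Scheme.homOfLE_ι, IsAffineOpen.isoSpec_inv_ι,
    IsAffineOpen.isoSpec_inv_ι]
  exact W.2.1.map_fromSpec V.2.1 (homOfLE h).op

theorem isPullback_chart {V W : J L} (h : V.1 ≤ W.1) :
    IsPullback (Spec.map (CommRingCat.ofHom (tr θ h))) (chartMap θ V) (chartMap θ W) (X.homOfLE h) := by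
  refine IsPullback.paste_vert ((isPullback_SpecMap_of_isPushout _ _ _ _
    (isPushout_mapCR (resR h) (qv h) (isUnit_qv h) (res_uval θ h))).flip) ?_
  exact IsPullback.of_vert_isIso ⟨isoSpec_inv_homOfLE h⟩

/-- The gluing datum. -/
def gd : Scheme.Cover.RelativeGluingData (cov hL) where
  functor := chartFunctor θ hL
  natTrans :=
    { app := fun W => chartMap θ W
      naturality := fun V W h => (isPullback_chart θ (V := V) (W := W) h.le).w }
  equifibered := fun {V W} h => isPullback_chart θ (V := V) (W := W) h.le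

instance : ((gd θ hL).functor ⋙ Scheme.forget).IsLocallyDirected :=
  Scheme.Cover.RelativeGluingData.instIsLocallyDirectedI₀CompFunctorForgetOfIsThin ..

/-- The cyclic cover. -/
def cyc : Scheme.{u} := (gd θ hL).glued

/-- Its map to the base. -/
def π : cyc θ hL ⟶ X := (gd θ hL).toBase

/-- The chart over an open. -/
def ι (W : J L) : Spec (CommRingCat.of (R θ W)) ⟶ cyc θ hL := (gd θ hL).cover.f W

instance (W : J L) : IsOpenImmersion (ι θ hL W) := (gd θ hL).cover.map_prop W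

theorem ι_π (W : J L) :
    ι θ hL W ≫ π θ hL = Spec.map (CommRingCat.ofHom (cst d (uval θ W))) ≫ W.2.1.fromSpec := by
  refine ((gd θ hL).ι_toBase W).trans ?_
  show (Spec.map _ ≫ W.2.1.isoSpec.inv) ≫ W.1.ι = _
  rw [Category.assoc, IsAffineOpen.isoSpec_inv_ι]

theorem isPullback_ι (W : J L) : IsPullback (chartMap θ W) (ι θ hL W) W.1.ι (π θ hL) :=
  (gd θ hL).isPullback_natTrans_ι_toBase W

theorem π_preimage (W : J L) : π θ hL ⁻¹ᵁ W.1 = (ι θ hL W).opensRange := by
  simpa using! (gd θ hL).toBase_preimage_eq_opensRange_ι W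

theorem ι_map {V W : J L} (h : V.1 ≤ W.1) :
    Spec.map (CommRingCat.ofHom (tr θ h)) ≫ ι θ hL W = ι θ hL V :=
  CategoryTheory.Limits.colimit.w (gd θ hL).functor (homOfLE h : (V : J L) ⟶ W)

theorem ι_mem (W : J L) (t : Spec (CommRingCat.of (R θ W))) : ι θ hL W t ∈ π θ hL ⁻¹ᵁ W.1 := by
  rw [π_preimage]; exact ⟨t, rfl⟩

/-- Functions over a chart. -/
def toR (W : J L) : Γ(cyc θ hL, π θ hL ⁻¹ᵁ W.1) →+* R θ W :=
  (Scheme.ΓSpecIso (CommRingCat.of (R θ W))).hom.hom.comp (ev (ι θ hL W) _ (ι_mem θ hL W))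

theorem bijective_toR (W : J L) : Function.Bijective (toR θ hL W) := by
  refine (ConcreteCategory.bijective_of_isIso (Scheme.ΓSpecIso (CommRingCat.of (R θ W))).hom).comp ?_
  have hpre : ι θ hL W ⁻¹ᵁ (π θ hL ⁻¹ᵁ W.1) = ⊤ := le_antisymm le_top fun t _ => ι_mem θ hL W t
  haveI : IsIso ((ι θ hL W).app (π θ hL ⁻¹ᵁ W.1)) := Scheme.Hom.isIso_app _ _ (π_preimage θ hL W).le
  have h2 : (ι θ hL W).appLE (π θ hL ⁻¹ᵁ W.1) ⊤ (fun t _ => ι_mem θ hL W t) =
      (ι θ hL W).app (π θ hL ⁻¹ᵁ W.1) ≫ (Spec (CommRingCat.of (R θ W))).presheaf.map (eqToHom hpre.symm).op :=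
    rfl
  haveI : IsIso ((ι θ hL W).appLE (π θ hL ⁻¹ᵁ W.1) ⊤ (fun t _ => ι_mem θ hL W t)) := by
    rw [h2]; infer_instance
  exact ConcreteCategory.bijective_of_isIso _

theorem toR_res {V W : J L} (h : V.1 ≤ W.1) (x : Γ(cyc θ hL, π θ hL ⁻¹ᵁ W.1)) :
    toR θ hL V (resR (Scheme.Hom.preimage_mono _ h) x) = tr θ h (toR θ hL W x) := by
  show (Scheme.ΓSpecIso _).hom.hom (ev (ι θ hL V) _ _ _) = tr θ h ((Scheme.ΓSpecIso _).hom.hom (ev (ι θ hL W) _ _ _))
  rw [ev_resR (ι θ hL V) _ (fun t => Scheme.Hom.preimage_mono _ h (ι_mem θ hL V t)) (ι_mem θ hL V),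
    ev_congr (ι_map θ hL h).symm _ _ (fun t => by rw [Scheme.Hom.comp_apply]; exact ι_mem θ hL W _),
    ev_comp (Spec.map (CommRingCat.ofHom (tr θ h))) (ι θ hL W) _ (ι_mem θ hL W)]
  exact congr($(Scheme.ΓSpecIso_naturality (CommRingCat.ofHom (tr θ h))) _)

theorem toR_app (W : J L) (b : Γ(X, W.1)) :
    toR θ hL W (((π θ hL).app W.1).hom b) = cst d (uval θ W) b := by
  show (Scheme.ΓSpecIso _).hom.hom (ev (ι θ hL W) _ _ _) = _
  have hm : ∀ t, W.2.1.fromSpec t ∈ W.1 := fun t => by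
    have : W.2.1.fromSpec t ∈ Set.range W.2.1.fromSpec := ⟨t, rfl⟩
    rwa [W.2.1.range_fromSpec] at this
  rw [ev_app (ι θ hL W) (π θ hL) W.1 (ι_mem θ hL W) (fun t => by rw [Scheme.Hom.comp_apply]; exact ι_mem θ hL W t),
    ev_congr (ι_π θ hL W) _ _ (fun t => by rw [Scheme.Hom.comp_apply]; exact hm _),
    ev_comp (Spec.map _) W.2.1.fromSpec W.1 hm]
  have h1 : ev W.2.1.fromSpec W.1 hm b = (Scheme.ΓSpecIso Γ(X, W.1)).inv.hom b := by
    have : W.2.1.fromSpec.appLE W.1 ⊤ (fun t _ => hm t) = (Scheme.ΓSpecIso Γ(X, W.1)).inv := by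
      rw [Scheme.Hom.appLE, W.2.1.fromSpec_app_self, Category.assoc, ← Functor.map_comp]
      exact (congrArg ((Scheme.ΓSpecIso Γ(X, W.1)).inv ≫ ·) (CategoryTheory.Functor.map_id _ _)).trans
        (Category.comp_id _)
    exact congr($this b)
  rw [h1]
  exact (congr($(Scheme.ΓSpecIso_naturality (CommRingCat.ofHom (cst d (uval θ W)))) _)).trans
    (congrArg (cst d (uval θ W)) (congr($((Scheme.ΓSpecIso Γ(X, W.1)).inv_hom_id) b)))

end

end Groth.Agent.PicfLib.Cyc
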