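import Groth.Agent.PicfLib.Cyc.Chart
import Groth.Agent.H23.GeomConnGamma
import Groth.Prelude.Def_Mor2
import Mathlib.AlgebraicGeometry.Morphisms.Etale
import Mathlib.AlgebraicGeometry.Morphisms.FlatRank

/-! Properties of the cyclic cover. -/

set_option autoImplicit false
set_option backward.isDefEq.respectTransparency false
set_option backward.isDefEq.respectTransparency.types false

universe u

open CategoryTheory AlgebraicGeometry TopologicalSpace Opposite
open CategoryTheory.Limits (pullback pullback.fst pullback.snd)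

namespace Groth.Agent.PicfLib.Cyc

open Groth.Agent.AModX Groth.Agent.InvX Groth.Agent.PicfLib.FppfLine

noncomputable section

variable {X : Scheme.{u}} {L : X.Modules} {d : ℕ}
variable (θ : CohB1.tensorPow L d ≅ Coh.structureModule X) (hL : PicF.IsInvertible L) (hd : 0 < d)

include hL in
/-- Compatible families of sections on the charts agree on overlaps. -/
theorem agree (M : X.Modules) (n : ∀ W : J L, Γ(M, W.1))
    (hn : ∀ (V W : J L) (h : V.1 ≤ W.1), res M h (n W) = n V) (W W' : J L) :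
    res M (inf_le_left : W.1 ⊓ W'.1 ≤ W.1) (n W) = res M inf_le_right (n W') := by
  refine eq_of_locally _ _ fun p hp => ?_
  obtain ⟨V, hpV, hV⟩ := exists_chart_le hL hp
  exact ⟨V.1, hV, hpV, by rw [res_res, res_res, hn, hn]⟩

include hL in
theorem exists_glue_fun (f : ∀ W : J L, Γ(X, W.1))
    (hf : ∀ (V W : J L) (h : V.1 ≤ W.1), resR h (f W) = f V) :
    ∃ κ : Γ(X, ⊤), ∀ W : J L, resR le_top κ = f W := by
  obtain ⟨κ, hκ, -⟩ := existsUnique_glue (M := Coh.structureModule X) (V := ⊤) (fun W : J L => W.1)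
    (fun _ => le_top) (fun x _ => by
      obtain ⟨V, hxV, -⟩ := exists_chart_le hL (show x ∈ (⊤ : X.Opens) from trivial)
      exact ⟨V, hxV⟩) f (agree hL (Coh.structureModule X) f hf)
  exact ⟨κ, hκ⟩

theorem exists_chart_pre (z : cyc θ hL) : ∃ W : J L, z ∈ π θ hL ⁻¹ᵁ W.1 := by
  obtain ⟨V, hV, -⟩ := exists_chart_le hL (show π θ hL z ∈ (⊤ : X.Opens) from trivial)
  exact ⟨V, hV⟩

theorem ext_toR {x y : Γ(cyc θ hL, ⊤)} (h : ∀ W, toR θ hL W (resR le_top x) = toR θ hL W (resR le_top y)) :
    x = y :=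
  eq_of_locally (M := Coh.structureModule (cyc θ hL)) x y fun p _ => by
    obtain ⟨W, hW⟩ := exists_chart_pre θ hL p
    exact ⟨_, le_top, hW, (bijective_toR θ hL W).1 (h W)⟩

theorem prop_π {P : MorphismProperty Scheme.{u}} [IsZariskiLocalAtTarget P]
    (h : ∀ W : J L, P (Spec.map (CommRingCat.ofHom (cst d (uval θ W))))) : P (π θ hL) :=
  IsZariskiLocalAtTarget.of_openCover (cov hL) fun W => by
    refine (P.cancel_left_of_respectsIso (isPullback_ι θ hL W).flip.isoPullback.hom _).1 ?_
    show P ((isPullback_ι θ hL W).flip.isoPullback.hom ≫ pullback.snd (π θ hL) W.1.ι)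
    rw [IsPullback.isoPullback_hom_snd]
    exact (P.cancel_right_of_respectsIso _ _).2 (h W)

include hd in
theorem finite_π : IsFinite (π θ hL) :=
  prop_π θ hL fun W => (IsFinite.SpecMap_iff (f := CommRingCat.ofHom (cst d (uval θ W)))).2
    (RingHom.finite_algebraMap.2 (monic hd (uval θ W)).finite_adjoinRoot)

include hd in
theorem flat_π : Flat (π θ hL) :=
  prop_π θ hL fun W => (Flat.SpecMap_iff (f := CommRingCat.ofHom (cst d (uval θ W)))).2 (by
    haveI := (monic hd (uval θ W)).free_adjoinRoot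
    exact RingHom.flat_algebraMap_iff.2 inferInstance)

theorem lfp_π : LocallyOfFinitePresentation (π θ hL) :=
  prop_π θ hL fun W => (LocallyOfFinitePresentation.SpecMap_iff (f := CommRingCat.ofHom (cst d (uval θ W)))).2
    (RingHom.finitePresentation_algebraMap.2 inferInstance)

include hd in
theorem etale_π (hdu : IsUnit ((d : ℕ) : Γ(X, ⊤))) : Etale (π θ hL) :=
  prop_π θ hL fun W => (HasRingHomProperty.Spec_iff (P := @Etale)
    (φ := CommRingCat.ofHom (cst d (uval θ W)))).2 (by
    have := hdu.map (resR (le_top : W.1 ≤ ⊤))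
    rw [map_natCast] at this
    exact RingHom.etale_algebraMap.2 (AzumayaX.etale_adjoinRoot (monic hd _) (separable hd (isUnit_uval θ W) this)))

include hd in
theorem finrank_π (y : X) : (π θ hL).finrank y = d := by
  haveI := finite_π θ hL hd
  haveI := flat_π θ hL hd
  obtain ⟨W, hyW, -⟩ := exists_chart_le hL (show y ∈ (⊤ : X.Opens) from trivial)
  have sq : IsPullback (ι θ hL W) (Spec.map (CommRingCat.ofHom (cst d (uval θ W)))) (π θ hL) W.2.1.fromSpec := by
    refine (isPullback_ι θ hL W).flip.of_iso (Iso.refl _) (Iso.refl _) W.2.1.isoSpec (Iso.refl _)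
      (by simp) (by simp [chartMap]) (by simp) (by simp [IsAffineOpen.isoSpec_inv_ι, ← Iso.inv_comp_eq])
  obtain ⟨t, rfl⟩ : y ∈ Set.range W.2.1.fromSpec := W.2.1.range_fromSpec.symm ▸ hyW
  refine (Scheme.Hom.finrank_of_isPullback _ _ _ _ sq t).symm.trans ?_
  haveI := (monic hd (uval θ W)).free_adjoinRoot
  haveI := (monic hd (uval θ W)).finite_adjoinRoot
  exact (Scheme.Hom.finrank_SpecMap_algebraMap Γ(X, W.1) (R θ W) t).trans (rankAtStalk_CR hd _ t)

/-- The variable as a function over a chart. -/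
def tv (W : J L) : Γ(cyc θ hL, π θ hL ⁻¹ᵁ W.1) := ((bijective_toR θ hL W).2 (rt d (uval θ W))).choose

theorem toR_tv (W : J L) : toR θ hL W (tv θ hL W) = rt d (uval θ W) :=
  ((bijective_toR θ hL W).2 (rt d (uval θ W))).choose_spec

include hd in
theorem isUnit_tv (W : J L) : IsUnit (tv θ hL W) := by
  let e := RingEquiv.ofBijective (toR θ hL W) (bijective_toR θ hL W)
  have h : tv θ hL W = e.symm (rt d (uval θ W)) := (e.eq_symm_apply).2 (toR_tv θ hL W)
  rw [h]
  exact (isUnit_rt hd (isUnit_uval θ W)).map e.symm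

theorem res_tv {V W : J L} (h : V.1 ≤ W.1) :
    resR (Scheme.Hom.preimage_mono _ h) (tv θ hL W) = ((π θ hL).app V.1).hom (qv h) * tv θ hL V := by
  apply (bijective_toR θ hL V).1
  rw [toR_res, map_mul, toR_app, toR_tv, toR_tv]
  exact mapCR_rt _ _ _

include hd in
theorem trivial_pullback :
    Nonempty ((Scheme.Modules.pullback (π θ hL)).obj L ≅ Coh.structureModule (cyc θ hL)) := by
  let M := (Scheme.Modules.pullback (π θ hL)).obj L
  let n : ∀ W : J L, Γ(M, π θ hL ⁻¹ᵁ W.1) := fun W =>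
    Ring.inverse (tv θ hL W) • pullElt (π θ hL) (fr W)
  have hn : ∀ (V W : J L) (h : V.1 ≤ W.1), res M (Scheme.Hom.preimage_mono _ h) (n W) = n V := by
    intro V W h
    simp only [n]
    rw [res_smul, res_pullElt, qv_spec h, pullElt_smul, ← mul_smul]
    congr 1
    have ht := isUnit_tv θ hL hd V
    have hq := (isUnit_qv h).map ((π θ hL).app V.1).hom
    obtain ⟨w, hw⟩ := isUnit_tv θ hL hd W
    rw [← hw, Ring.inverse_unit]
    refine ((hq.mul ht).mul_right_inj).1 ?_
    have h1 : ((π θ hL).app V.1).hom (qv h) * tv θ hL V *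
        resR (Scheme.Hom.preimage_mono _ h) ((w⁻¹ : _ˣ) : Γ(cyc θ hL, π θ hL ⁻¹ᵁ W.1)) = 1 := by
      rw [← res_tv θ hL h, ← hw, ← map_mul, Units.mul_inv, map_one]
    rw [← mul_assoc, h1, one_mul, mul_assoc, Ring.mul_inverse_cancel _ ht, mul_one]
    all_goals exact h
  refine Trans.nonempty_iso_of_agree (fun W : J L => π θ hL ⁻¹ᵁ W.1) (exists_chart_pre θ hL) n (fun W => ?_)
    fun W W' => ?_
  · refine (isFrame_pullElt (π θ hL) (isFrame_fr W)).isUnit_smul ?_
    obtain ⟨w, hw⟩ := isUnit_tv θ hL hd W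
    rw [← hw, Ring.inverse_unit]
    exact w⁻¹.isUnit
  · refine eq_of_locally _ _ fun p hp => ?_
    obtain ⟨V, hpV, hV⟩ := exists_chart_le hL (show π θ hL p ∈ W.1 ⊓ W'.1 from hp)
    refine ⟨π θ hL ⁻¹ᵁ V.1, fun q hq => hV hq, hpV, ?_⟩
    rw [res_res, res_res]
    exact (hn V W (hV.trans inf_le_left)).trans (hn V W' (hV.trans inf_le_right)).symm

include hd in
theorem connected [IsIntegral X] (hfield : IsField (Γ(X, ⊤) : Type u))
    (hmin : ∀ i : ℕ, 0 < i → i < d → IsEmpty (CohB1.tensorPow L i ≅ Coh.structureModule X)) :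
    ConnectedSpace (cyc θ hL) := by
  obtain ⟨x₀⟩ : Nonempty X := inferInstance
  obtain ⟨W₀, -, -⟩ := exists_chart_le hL (show x₀ ∈ (⊤ : X.Opens) from trivial)
  haveI : Nontrivial Γ(cyc θ hL, ⊤) := nontrivial_of_ne 0 1 fun h => by
    have := congrArg (fun y => (basisCR hd (uval θ W₀)).repr (toR θ hL W₀ (resR le_top y)) ⟨0, hd⟩) h
    simp only [map_zero, map_one, Finsupp.coe_zero, Pi.zero_apply] at this
    rw [← map_one (cst d (uval θ W₀)), repr_cst, if_pos rfl] at this
    exact zero_ne_one this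
  refine H23.GeomConnGamma.connectedSpace_of_idem fun x hx => ?_
  let a : ∀ W : J L, R θ W := fun W => toR θ hL W (resR le_top x)
  let c : Fin d → ∀ W : J L, Γ(X, W.1) := fun i W => (basisCR hd (uval θ W)).repr (a W) i
  have hc : ∀ i (V W : J L) (h : V.1 ≤ W.1), resR h (c i W) * qv h ^ (i : ℕ) = c i V := by
    intro i V W h
    have e : a V = tr θ h (a W) := by
      show toR θ hL V _ = tr θ h (toR θ hL W _)
      rw [← toR_res, resR_resR]
    show _ = (basisCR hd (uval θ V)).repr (a V) i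
    rw [e]
    exact (repr_mapCR hd _ _ _ _ _).symm
  -- the higher coefficients vanish
  have hzero : ∀ i : Fin d, (i : ℕ) ≠ 0 → ∀ W, c i W = 0 := by
    intro i hi
    obtain ⟨ν, hν⟩ := exists_glue_fun hL (fun W => c i W ^ d * uval θ W ^ (i : ℕ)) fun V W h => by
      rw [map_mul, map_pow, map_pow, res_uval θ h, mul_pow, ← pow_mul, mul_comm d, pow_mul, ← mul_assoc, ← mul_pow,
        hc i V W h]
    rcases eq_or_ne ν 0 with rfl | hne
    · intro W
      haveI : Nonempty W.1 := ⟨⟨W.2.2.1.choose, W.2.2.1.choose_spec⟩⟩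
      have h := hν W
      rw [map_zero, eq_comm] at h
      exact eq_zero_of_pow_eq_zero ((mul_eq_zero.1 h).resolve_right ((isUnit_uval θ W).pow _).ne_zero)
    · exfalso
      obtain ⟨μ, hμ⟩ := hfield.mul_inv_cancel hne
      have hu : ∀ W, IsUnit (c i W) := fun W => by
        have := (IsUnit.of_mul_eq_one _ hμ).map (resR (le_top : W.1 ≤ ⊤))
        rw [hν W] at this
        exact (isUnit_pow_iff (Nat.pos_iff_ne_zero.1 hd)).1 (isUnit_of_mul_isUnit_left this)
      refine (hmin i (Nat.pos_of_ne_zero hi) i.2).false (Trans.nonempty_iso_of_agree (fun W : J L => W.1)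
        (fun x => ?_) (fun W => c i W • Trans.powSec (fr W) i)
        (fun W => (Trans.isFrame_powSec (isFrame_fr W) i).isUnit_smul (hu W))
        (agree hL _ _ fun V W h => ?_)).some
      · obtain ⟨V, hxV, -⟩ := exists_chart_le hL (show x ∈ (⊤ : X.Opens) from trivial)
        exact ⟨V, hxV⟩
      · rw [res_smul, Trans.res_powSec, qv_spec h, Trans.powSec_smul, ← mul_smul, hc i V W h]
  let z : Fin d := ⟨0, hd⟩
  have hconst : ∀ W, a W = cst d (uval θ W) (c z W) := fun W => by
    conv_lhs => rw [sum_basisCR hd (uval θ W) (a W)]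
    rw [Finset.sum_eq_single z]
    · simp [z, c]
    · intro i _ hi
      have : (i : ℕ) ≠ 0 := fun e => hi (Fin.ext e)
      rw [show (basisCR hd (uval θ W)).repr (a W) i = 0 from hzero i this W, map_zero, zero_mul]
    · simp
  obtain ⟨κ, hκ⟩ := exists_glue_fun hL (c z) fun V W h => by
    have := hc z V W h
    simpa [z] using this
  have hκ2 : κ * κ = κ := eq_of_locally (M := Coh.structureModule X) (κ * κ) κ fun p _ => by
    obtain ⟨W, hpW, -⟩ := exists_chart_le hL (show p ∈ (⊤ : X.Opens) from trivial)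
    refine ⟨W.1, le_top, hpW, ?_⟩
    show resR le_top (κ * κ) = resR le_top κ
    rw [map_mul, hκ]
    have h := congrArg (fun y => toR θ hL W (resR le_top y)) hx.eq
    simp only [map_mul] at h
    change a W * a W = a W at h
    rw [hconst W, ← map_mul] at h
    have h' := congrArg (fun y => (basisCR hd (uval θ W)).repr y z) h
    simpa [← map_mul, repr_cst, z] using h'
  haveI := hfield.nontrivial
  letI := hfield.toField
  rcases (IsIdempotentElem.iff_eq_zero_or_one.1 hκ2 : κ = 0 ∨ κ = 1) with rfl | rfl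
  · refine Or.inl (ext_toR θ hL fun W => ?_)
    show a W = _
    rw [hconst, ← hκ]; simp
  · refine Or.inr (ext_toR θ hL fun W => ?_)
    show a W = _
    rw [hconst, ← hκ]; simp

include θ hL hd in
/-- The cyclic cover exists. -/
theorem exists_cover [IsIntegral X] (hfield : IsField (Γ(X, ⊤) : Type u))
    (hmin : ∀ i : ℕ, 0 < i → i < d → IsEmpty (CohB1.tensorPow L i ≅ Coh.structureModule X)) :
    ∃ (X' : Scheme.{u}) (g : X' ⟶ X), ConnectedSpace X' ∧ Mor2.IsFinLocFreeOfDeg d g ∧
      Nonempty ((Scheme.Modules.pullback g).obj L ≅ Coh.structureModule X') ∧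
      (IsUnit ((d : ℕ) : Γ(X, ⊤)) → Etale g) :=
  ⟨cyc θ hL, π θ hL, connected θ hL hd hfield hmin,
    ⟨⟨finite_π θ hL hd, flat_π θ hL hd, lfp_π θ hL⟩, finrank_π θ hL hd⟩, trivial_pullback θ hL hd,
    etale_π θ hL hd⟩

end

end Groth.Agent.PicfLib.Cyc
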